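import Groth.Agent.Lib.ValDiv15.Local
import Groth.Agent.Lib.ValDiv15.Global
import Mathlib.LinearAlgebra.Dual.Defs
import Mathlib.RingTheory.EssentialFiniteness

/-!
# Projective dimension over local algebras over valuation rings with regular special fibre
-/

open IsLocalRing

namespace Groth.Agent.ValPD15

universe u

open Groth.Agent.ValCoh15 Groth.Agent.RegLoc Groth.Agent.ValDiv15

variable {R A : Type u} [CommRing R] [IsDomain R] [ValuationRing R] [CommRing A] [Algebra R A]

variable (R A) in
theorem hcoh_essFiniteType [Algebra.EssFiniteType R A] (r : ℕ) (N : Submodule A (Fin r → A)) (hN : IsSat R N) :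
    N.FG :=
  hcoh_localization (R := R) (A := Algebra.EssFiniteType.subalgebra R A) (Algebra.EssFiniteType.submonoid R A) A r N hN

theorem torsionFree_of_flat {M : Type u} [AddCommGroup M] [Module A M] [Module R M] [IsScalarTower R A M]
    [Module.Flat R M] (c : R) (x : M) (hc : c ≠ 0) (h : algebraMap R A c • x = 0) : x = 0 := by
  rw [algebraMap_smul] at h
  exact (smul_eq_zero_iff_right hc).1 h

theorem finitePresentation_of_torsionFree (hcoh : ∀ (r : ℕ) (N : Submodule A (Fin r → A)), IsSat R N → N.FG)
    (M : Type u) [AddCommGroup M] [Module A M] [Module.Finite A M]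
    (hM : ∀ (c : R) (x : M), c ≠ 0 → algebraMap R A c • x = 0 → x = 0) : Module.FinitePresentation A M := by
  obtain ⟨r, f, hf⟩ := Module.Finite.exists_fin' A M
  exact Module.finitePresentation_of_surjective f hf (hcoh r _ (isSat_ker f hM))

theorem torsionFree_free (hA : ∀ (c : R) (x : A), c ≠ 0 → algebraMap R A c * x = 0 → x = 0) (r : ℕ)
    (c : R) (x : Fin r → A) (hc : c ≠ 0) (hx : algebraMap R A c • x = 0) : x = 0 :=
  funext fun i => hA c _ hc (congrFun hx i)

section Local

variable [IsLocalRing A] (hfib : fib R A ≤ maximalIdeal A)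
  (hA : ∀ (c : R) (x : A), c ≠ 0 → algebraMap R A c * x = 0 → x = 0)
  (hcoh : ∀ (r : ℕ) (N : Submodule A (Fin r → A)), IsSat R N → N.FG)

include hfib hA hcoh

/-- The projective dimension of a torsion-free module is bounded by that of its reduction. -/
theorem pd_of_red : ∀ (n : ℕ) (M : Type u) [AddCommGroup M] [Module A M] [Module.Finite A M],
    (∀ (c : R) (x : M), c ≠ 0 → algebraMap R A c • x = 0 → x = 0) →
    PD (A ⧸ fib R A) (M ⧸ fib R A • (⊤ : Submodule A M)) n → PD A M n := by
  intro n
  induction n with
  | zero =>
    intro M _ _ _ hM h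
    have := free_of_projective_red hfib hcoh M hM (pd_zero_iff.1 h)
    exact PD.of_projective 0
  | succ n ih =>
    intro M _ _ _ hM h
    obtain ⟨r, f, hf⟩ := Module.Finite.exists_fin' A M
    have : Module.Finite A (LinearMap.ker f) := Module.Finite.iff_fg.2 (hcoh r _ (isSat_ker f hM))
    have : Module.Projective (A ⧸ fib R A) ((Fin r → A) ⧸ fib R A • (⊤ : Submodule A (Fin r → A))) :=
      Module.Projective.of_equiv (LinearEquiv.extendScalarsOfSurjective Ideal.Quotient.mk_surjective
        ((TensorProduct.quotTensorEquivQuotSMul (Fin r → A) (fib R A))))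
    rw [pd_succ_iff (redMap (fib R A) f) (redMap_surjective _ f hf)] at h
    rw [pd_succ_iff f hf]
    exact ih _ (torsionFree_submodule _ (torsionFree_free hA r)) (h.congr (kerRedEquiv f hf hM).symm)

variable {n : ℕ} [IsRegularLocalRing (A ⧸ fib R A)] (hn : ringKrullDim (A ⧸ fib R A) = n)

include hn

/-- Torsion-free finite modules have projective dimension at most the fibre dimension. -/
theorem pd_of_torsionFree (M : Type u) [AddCommGroup M] [Module A M] [Module.Finite A M]
    (hM : ∀ (c : R) (x : M), c ≠ 0 → algebraMap R A c • x = 0 → x = 0) : PD A M n := by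
  have h := IsRegularLocalRing.spanFinrank_maximalIdeal (R := A ⧸ fib R A)
  rw [hn] at h
  have h' : (maximalIdeal (A ⧸ fib R A)).spanFinrank = n := by exact_mod_cast h
  haveI : Module.Finite (A ⧸ fib R A) (M ⧸ fib R A • (⊤ : Submodule A M)) :=
    Module.Finite.of_restrictScalars_finite A _ _
  exact pd_of_red hfib hA hcoh n M hM (pd_le_spanFinrank n _ h' _)

/-- Finitely presented modules have projective dimension at most one more than the fibre dimension. -/
theorem pd_of_finitePresentation (M : Type u) [AddCommGroup M] [Module A M] [Module.FinitePresentation A M] :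
    PD A M (n + 1) := by
  obtain ⟨r, f, hf⟩ := Module.Finite.exists_fin' A M
  have : Module.Finite A (LinearMap.ker f) :=
    Module.Finite.iff_fg.2 (Module.FinitePresentation.fg_ker f hf)
  rw [pd_succ_iff f hf]
  exact pd_of_torsionFree hfib hA hcoh hn _ (torsionFree_submodule _ (torsionFree_free hA r))

end Local

section Dual

variable {a : ℕ} {N : Type u} [AddCommGroup N] [Module A N] (g : (Fin a → A) →ₗ[A] N)

/-- Functionals on a quotient of a free module as vectors. -/
def dualVec : Module.Dual A N →ₗ[A] (Fin a → A) :=
  LinearMap.pi fun i => LinearMap.applyₗ (g (Pi.single i 1))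

theorem linearCombination_dualVec (φ : Module.Dual A N) (v : Fin a → A) :
    Fintype.linearCombination A (dualVec g φ) v = φ (g v) := by
  conv_rhs => rw [pi_eq_sum_univ' v, map_sum, map_sum]
  rw [Fintype.linearCombination_apply]
  exact Finset.sum_congr rfl fun i _ => by rw [map_smul, map_smul]; rfl

variable {g}

theorem dualVec_injective (hg : Function.Surjective g) : Function.Injective (dualVec g) := by
  intro φ ψ h
  refine LinearMap.ext fun y => ?_
  obtain ⟨v, rfl⟩ := hg y
  rw [← linearCombination_dualVec, h, linearCombination_dualVec]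

theorem mem_range_dualVec (hg : Function.Surjective g) (x : Fin a → A) :
    x ∈ LinearMap.range (dualVec g) ↔ ∀ v ∈ LinearMap.ker g, Fintype.linearCombination A x v = 0 := by
  refine ⟨?_, fun h => ?_⟩
  · rintro ⟨φ, rfl⟩ v hv
    rw [linearCombination_dualVec, LinearMap.mem_ker.1 hv, map_zero]
  · refine ⟨((LinearMap.ker g).liftQ (Fintype.linearCombination A x) h).comp
      (g.quotKerEquivOfSurjective hg).symm.toLinearMap, funext fun i => ?_⟩
    show ((LinearMap.ker g).liftQ _ h) ((g.quotKerEquivOfSurjective hg).symm (g (Pi.single i 1))) = x i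
    rw [show (g.quotKerEquivOfSurjective hg).symm (g (Pi.single i 1)) = Submodule.Quotient.mk (Pi.single i 1) from
      (g.quotKerEquivOfSurjective hg).symm_apply_eq.2 rfl, Submodule.liftQ_apply,
      Fintype.linearCombination_apply_single, one_smul]

theorem isSat_range_dualVec (hA : ∀ (c : R) (x : A), c ≠ 0 → algebraMap R A c * x = 0 → x = 0)
    (hg : Function.Surjective g) : IsSat R (LinearMap.range (dualVec g)) := by
  intro c x hc hx
  rw [mem_range_dualVec hg] at hx ⊢
  intro v hv
  refine hA c _ hc ?_
  rw [← hx v hv, Fintype.linearCombination_apply, Fintype.linearCombination_apply, Finset.mul_sum]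
  exact Finset.sum_congr rfl fun i _ => by simp only [Pi.smul_apply, smul_eq_mul]; ring

end Dual

/-- Reflexive modules have projective dimension at most one less than the fibre dimension. -/
theorem pd_of_isReflexive [IsLocalRing A] (hfib : fib R A ≤ maximalIdeal A)
    (hA : ∀ (c : R) (x : A), c ≠ 0 → algebraMap R A c * x = 0 → x = 0)
    (hcoh : ∀ (r : ℕ) (N : Submodule A (Fin r → A)), IsSat R N → N.FG)
    {n : ℕ} [IsRegularLocalRing (A ⧸ fib R A)] (hn : ringKrullDim (A ⧸ fib R A) = n)
    (M : Type u) [AddCommGroup M] [Module A M] [Module.FinitePresentation A M] [Module.IsReflexive A M] :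
    PD A M (n - 1) := by
  obtain ⟨r, f, hf⟩ := Module.Finite.exists_fin' A M
  haveI : Module.Finite A (LinearMap.range (dualVec f)) :=
    Module.Finite.iff_fg.2 (hcoh r _ (isSat_range_dualVec hA hf))
  let e := LinearEquiv.ofInjective (dualVec f) (dualVec_injective hf)
  haveI : Module.Finite A (Module.Dual A M) := Module.Finite.equiv e.symm
  have hD : ∀ (c : R) (φ : Module.Dual A M), c ≠ 0 → algebraMap R A c • φ = 0 → φ = 0 :=
    fun c φ hc hφ => LinearMap.ext fun y => hA c _ hc (LinearMap.congr_fun hφ y)
  haveI := finitePresentation_of_torsionFree hcoh (Module.Dual A M) hD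
  obtain ⟨a, g, hg⟩ := Module.Finite.exists_fin' A (Module.Dual A M)
  obtain ⟨b, v, hv⟩ := Submodule.fg_iff_exists_fin_generating_family.1 (Module.FinitePresentation.fg_ker g hg)
  let T : (Fin a → A) →ₗ[A] (Fin b → A) :=
    LinearMap.pi fun j =>
      { toFun := fun x => Fintype.linearCombination A x (v j)
        map_add' := fun x y => by
          simp only [Fintype.linearCombination_apply, Pi.add_apply, smul_add, Finset.sum_add_distrib]
        map_smul' := fun c x => by
          simp only [Fintype.linearCombination_apply, Pi.smul_apply, smul_eq_mul, RingHom.id_apply, Finset.mul_sum]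
          exact Finset.sum_congr rfl fun i _ => by ring }
  have hker : LinearMap.range (dualVec g) = LinearMap.ker T := by
    ext x
    rw [mem_range_dualVec hg, LinearMap.mem_ker, funext_iff]
    refine ⟨fun h j => h (v j) (hv ▸ Submodule.subset_span ⟨j, rfl⟩), fun h => ?_⟩
    rw [← hv]
    have : Submodule.span A (Set.range v) ≤ LinearMap.ker (Fintype.linearCombination A x) :=
      Submodule.span_le.2 (Set.range_subset_iff.2 fun j => h j)
    exact fun w hw => this hw
  have h1 : PD A (LinearMap.range T) (n - 1 + 1) :=
    (pd_of_torsionFree hfib hA hcoh hn _ (torsionFree_submodule _ (torsionFree_free hA b))).mono (by omega)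
  rw [pd_succ_iff T.rangeRestrict T.surjective_rangeRestrict] at h1
  refine h1.congr ?_
  exact (LinearEquiv.ofEq _ _ (T.ker_rangeRestrict.trans hker.symm)).trans
    ((LinearEquiv.ofInjective (dualVec g) (dualVec_injective hg)).symm.trans
      (Module.evalEquiv A M).symm)

/-- The bounds for a prime of a flat finitely presented algebra. -/
theorem pd_fibreDim (V : Type u) [CommRing V] [IsDomain V] [ValuationRing V]
    (B : Type u) [CommRing B] [Algebra V B] [Module.Flat V B] [Algebra.FinitePresentation V B]
    (q : Ideal B) [q.IsPrime] (n : ℕ)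
    (hreg : IsRegularLocalRing (Localization.AtPrime q ⧸ Ideal.map (algebraMap V (Localization.AtPrime q)) (Ideal.comap (algebraMap V B) q)))
    (hn : ringKrullDim (Localization.AtPrime q ⧸ Ideal.map (algebraMap V (Localization.AtPrime q)) (Ideal.comap (algebraMap V B) q)) = n)
    (M : Type u) [AddCommGroup M] [Module (Localization.AtPrime q) M] [Module.FinitePresentation (Localization.AtPrime q) M] :
    ((∀ (c : V) (x : M), c ≠ 0 → algebraMap V (Localization.AtPrime q) c • x = 0 → x = 0) →
      PD (Localization.AtPrime q) M n) ∧ PD (Localization.AtPrime q) M (n + 1) ∧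
      (Module.IsReflexive (Localization.AtPrime q) M → PD (Localization.AtPrime q) M (n - 1)) := by
  let p := Ideal.comap (algebraMap V B) q
  let L := Localization.AtPrime q
  let V' := Localization.AtPrime p
  haveI : IsDomain V' := IsLocalization.isDomain_of_le_nonZeroDivisors _ p.primeCompl_le_nonZeroDivisors
  haveI : ValuationRing V' := valuationRing_localization p
  letI : Algebra V' L := (Localization.localRingHom p q (algebraMap V B) rfl).toAlgebra
  haveI : IsScalarTower V V' L := IsScalarTower.of_algebraMap_eq fun x => by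
    rw [RingHom.algebraMap_toAlgebra, Localization.localRingHom_to_map, ← IsScalarTower.algebraMap_apply V B L]
  have hfibeq : fib V' L = p.map (algebraMap V L) := by
    rw [fib, ← Localization.AtPrime.map_eq_maximalIdeal, Ideal.map_map, ← IsScalarTower.algebraMap_eq V V' L]
  haveI : IsLocalHom (algebraMap V' L) := by
    rw [RingHom.algebraMap_toAlgebra]; exact Localization.isLocalHom_localRingHom p q _ _
  have hfib : fib V' L ≤ maximalIdeal L := ((local_hom_TFAE _).out 0 2).1 ‹_›
  haveI : Module.Flat V L := inferInstance
  have hne : ∀ c : V, c ≠ 0 → algebraMap V V' c ≠ 0 := fun c hc h =>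
    hc (IsLocalization.injective V' p.primeCompl_le_nonZeroDivisors (h.trans (map_zero _).symm))
  have htf : ∀ {X : Type u} [AddCommGroup X] [Module L X],
      (∀ (c : V) (x : X), c ≠ 0 → algebraMap V L c • x = 0 → x = 0) →
      ∀ (c : V') (x : X), c ≠ 0 → algebraMap V' L c • x = 0 → x = 0 := fun hX c x hc hx => by
    obtain ⟨a, s, rfl⟩ := IsLocalization.exists_mk'_eq p.primeCompl c
    refine hX a x (fun h => hc (by rw [h, IsLocalization.mk'_zero])) ?_
    rw [IsScalarTower.algebraMap_apply V V' L, ← IsLocalization.mk'_spec V' a s, map_mul, mul_comm, mul_smul, hx,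
      smul_zero]
  have hA : ∀ (c : V') (x : L), c ≠ 0 → algebraMap V' L c * x = 0 → x = 0 :=
    htf (X := L) fun c x hc hx => torsionFree_of_flat (R := V) (A := L) c x hc hx
  have hcoh : ∀ (r : ℕ) (N : Submodule L (Fin r → L)), IsSat V' N → N.FG := fun r N hN =>
    hcoh_localization (R := V) q.primeCompl L r N fun c x hc hx =>
      hN (algebraMap V V' c) x (hne c hc) (by rwa [← IsScalarTower.algebraMap_apply])
  haveI : IsRegularLocalRing (L ⧸ fib V' L) :=
    haveI := hreg
    IsRegularLocalRing.of_ringEquiv (Ideal.quotEquivOfEq hfibeq.symm)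
  have hn' : ringKrullDim (L ⧸ fib V' L) = n :=
    (ringKrullDim_eq_of_ringEquiv (Ideal.quotEquivOfEq hfibeq)).trans hn
  refine ⟨fun hM => pd_of_torsionFree hfib hA hcoh hn' M (htf hM),
    pd_of_finitePresentation hfib hA hcoh hn' M, fun h => ?_⟩
  haveI := h
  exact pd_of_isReflexive hfib hA hcoh hn' M

end Groth.Agent.ValPD15
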