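import Groth.Agent.Lib.ValPD15.Basic
import Groth.Agent.Lib.SchDom.FlatInj

/-!
# Maps injective on the special fibre over a valuation ring
-/

open IsLocalRing

namespace Groth.Agent.ValPD15

universe u

open Groth.Agent.ValCoh15 Groth.Agent.ValDiv15

variable {A B : Type u} [CommRing A] [IsDomain A] [ValuationRing A] [CommRing B] [IsLocalRing B] [Algebra A B]
  [IsLocalHom (algebraMap A B)]

theorem fib_le : fib A B ≤ maximalIdeal B := ((local_hom_TFAE (algebraMap A B)).out 0 2).1 ‹_›

theorem flat_of_torsionFree {X : Type u} [AddCommGroup X] [Module A X]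
    (h : ∀ (c : A) (x : X), c ≠ 0 → c • x = 0 → x = 0) : Module.Flat A X := by
  refine Module.Flat.flat_iff_torsion_eq_bot_of_isBezout.2 (eq_bot_iff.2 fun x hx => ?_)
  obtain ⟨c, hc⟩ := hx
  exact h c x (nonZeroDivisors.ne_zero c.2) hc

variable [Algebra.EssFiniteType A B] {N M : Type u} [AddCommGroup N] [Module B N] [Module A N]
  [IsScalarTower A B N] [Module.Finite B N] [AddCommGroup M] [Module B M] [Module A M] [IsScalarTower A B M]
  [Module.Finite B M] [Module.Flat A M]

theorem injective_of_fibre (u : N →ₗ[B] M)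
    (hu : ∀ x, u x ∈ fib A B • (⊤ : Submodule B M) → x ∈ fib A B • (⊤ : Submodule B N)) :
    Function.Injective u := by
  have hM : ∀ (c : A) (x : M), c ≠ 0 → algebraMap A B c • x = 0 → x = 0 :=
    fun c x hc hx => torsionFree_of_flat c x hc hx
  haveI : Module.FinitePresentation B (LinearMap.range u) :=
    finitePresentation_of_torsionFree (hcoh_essFiniteType A B) _ (torsionFree_submodule _ hM)
  have hK : (LinearMap.ker u).FG := by
    rw [← LinearMap.ker_rangeRestrict]
    exact Module.FinitePresentation.fg_ker _ (LinearMap.surjective_rangeRestrict u)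
  rw [← LinearMap.ker_eq_bot]
  refine Submodule.eq_bot_of_le_smul_of_le_jacobson_bot (fib A B) _ hK (fun x hx => ?_)
    (fib_le.trans (jacobson_eq_maximalIdeal ⊥ bot_ne_top).ge)
  obtain ⟨c, hc, y, rfl⟩ := exists_eq_smul_of_mem (R := A) (hu x (by rw [LinearMap.mem_ker.1 hx]; exact zero_mem _))
  by_cases hc0 : c = 0
  · rw [hc0, map_zero, zero_smul]; exact zero_mem _
  · refine Submodule.smul_mem_smul (Ideal.mem_map_of_mem _ hc) (LinearMap.mem_ker.2 (hM c _ hc0 ?_))
    rw [← map_smul]; exact LinearMap.mem_ker.1 hx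

omit [IsLocalRing B] [IsLocalHom (algebraMap A B)] in
theorem smul_restrict {X : Type u} [AddCommGroup X] [Module B X] [Module A X] [IsScalarTower A B X] :
    (maximalIdeal A • ⊤ : Submodule A X) = (fib A B • (⊤ : Submodule B X)).restrictScalars A := by
  rw [Ideal.smul_restrictScalars, Submodule.restrictScalars_top]

theorem injective_and_flat_coker (u : N →ₗ[B] M)
    (hu : ∀ x, u x ∈ fib A B • (⊤ : Submodule B M) → x ∈ fib A B • (⊤ : Submodule B N)) :
    Function.Injective u ∧ Module.Flat A (M ⧸ LinearMap.range u) := by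
  classical
  have hinj := injective_of_fibre u hu
  refine ⟨hinj, flat_of_torsionFree fun c x hc hx => ?_⟩
  obtain ⟨m, rfl⟩ := Submodule.Quotient.mk_surjective _ x
  obtain ⟨k, f₀, hf₀⟩ := Algebra.FiniteType.iff_quotient_mvPolynomial''.1
    (inferInstance : Algebra.FiniteType A (Algebra.EssFiniteType.subalgebra A B))
  let P := MvPolynomial (Fin k) A
  let φ : P →ₐ[A] B := (Subalgebra.val _).comp f₀
  have hloc : ∀ b : B, ∃ p t : P, IsUnit (φ t) ∧ b * φ t = φ p := fun b => by
    obtain ⟨⟨x, t, ht⟩, hxt⟩ := IsLocalization.surj (Algebra.EssFiniteType.submonoid A B) b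
    obtain ⟨p, rfl⟩ := hf₀ x
    obtain ⟨t, rfl⟩ := hf₀ t
    exact ⟨p, t, ht, hxt⟩
  letI : Algebra P B := φ.toRingHom.toAlgebra
  letI : Module P M := Module.compHom M φ.toRingHom
  letI : Module P N := Module.compHom N φ.toRingHom
  haveI : IsScalarTower P B M := IsScalarTower.of_algebraMap_smul fun _ _ => rfl
  haveI : IsScalarTower P B N := IsScalarTower.of_algebraMap_smul fun _ _ => rfl
  haveI : IsScalarTower A P M := IsScalarTower.of_algebraMap_smul fun c x => by
    show φ (algebraMap A P c) • x = c • x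
    rw [AlgHom.commutes, algebraMap_smul]
  haveI : IsScalarTower A P N := IsScalarTower.of_algebraMap_smul fun c x => by
    show φ (algebraMap A P c) • x = c • x
    rw [AlgHom.commutes, algebraMap_smul]
  let r : Ideal P := (maximalIdeal B).comap φ.toRingHom
  haveI : r.IsPrime := Ideal.IsPrime.comap _
  have hr : ∀ t, t ∉ r ↔ IsUnit (φ t) := fun t => by
    show φ t ∉ maximalIdeal B ↔ _
    rw [mem_maximalIdeal, mem_nonunits_iff, not_not]
  obtain ⟨sN, hsN⟩ := Module.Finite.fg_top (R := B) (M := N)
  obtain ⟨sM, hsM⟩ := Module.Finite.fg_top (R := B) (M := M)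
  let N₀ : Submodule P N := Submodule.span P (sN : Set N)
  let M₀ : Submodule P M := Submodule.span P ((sM : Set M) ∪ u '' sN)
  have hscale : ∀ {X : Type u} [AddCommGroup X] [Module B X] [Module P X] [IsScalarTower P B X] (S : Set X),
      Submodule.span B S = ⊤ → ∀ x : X, ∃ t ∉ r, t • x ∈ Submodule.span P S := by
    intro X _ _ _ _ S hS x
    have hx : x ∈ Submodule.span B S := hS ▸ trivial
    induction hx using Submodule.span_induction with
    | mem x hx => exact ⟨1, (hr 1).2 (by simp), by rw [one_smul]; exact Submodule.subset_span hx⟩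
    | zero => exact ⟨1, (hr 1).2 (by simp), by simp⟩
    | add x y _ _ hx hy =>
      obtain ⟨s, hs, hsx⟩ := hx
      obtain ⟨t, ht, hty⟩ := hy
      refine ⟨s * t, fun h => (‹r.IsPrime›.mem_or_mem h).elim hs ht, ?_⟩
      rw [smul_add, mul_comm, mul_smul, mul_comm, mul_smul s t y]
      exact add_mem (Submodule.smul_mem _ t hsx) (Submodule.smul_mem _ s hty)
    | smul b x _ hx =>
      obtain ⟨s, hs, hsx⟩ := hx
      obtain ⟨p, t, ht, hp⟩ := hloc b
      refine ⟨t * s, fun h => (‹r.IsPrime›.mem_or_mem h).elim ((hr t).2 ht) hs, ?_⟩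
      have : (t * s) • b • x = p • (s • x) := by
        rw [← algebraMap_smul B (t * s), ← algebraMap_smul B p, ← algebraMap_smul B s, ← mul_smul, ← mul_smul,
          map_mul]
        congr 1
        show φ t * φ s * b = φ p * φ s
        rw [← hp]; ring
      rw [this]
      exact Submodule.smul_mem _ p hsx
  have hspan : Submodule.span B ((sM : Set M) ∪ u '' sN) = ⊤ :=
    top_le_iff.1 (hsM ▸ Submodule.span_mono Set.subset_union_left)
  have hM₀ : ∀ (c : A) (x : M₀), c ≠ 0 → algebraMap A P c • x = 0 → x = 0 := fun c x hc hx => by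
    rw [algebraMap_smul] at hx
    exact Subtype.ext ((smul_eq_zero_iff_right hc).1 (congrArg Subtype.val hx))
  have hN₀ : ∀ (c : A) (x : N₀), c ≠ 0 → algebraMap A P c • x = 0 → x = 0 := fun c x hc hx => by
    rw [algebraMap_smul] at hx
    refine Subtype.ext (hinj ?_)
    rw [ZeroMemClass.coe_zero, map_zero]
    refine (smul_eq_zero_iff_right hc).1 ?_
    rw [← LinearMap.map_smul_of_tower, ← Submodule.coe_smul_of_tower, hx]
    simp
  have hP : ∀ (s : ℕ) (L : Submodule P (Fin s → P)), IsSat A L → L.FG := fun s L hL => fg_of_saturated (R := A) L hL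
  haveI : Module.Finite P M₀ := Module.Finite.iff_fg.2
    (Submodule.fg_span ((sM.finite_toSet).union (sN.finite_toSet.image u)))
  haveI : Module.Finite P N₀ := Module.Finite.iff_fg.2 (Submodule.fg_span sN.finite_toSet)
  haveI : Module.FinitePresentation P M₀ := finitePresentation_of_torsionFree hP _ hM₀
  haveI : Module.FinitePresentation P N₀ := finitePresentation_of_torsionFree hP _ hN₀
  haveI : Module.Flat A M₀ := flat_of_torsionFree fun c x hc hx => hM₀ c x hc (by rwa [algebraMap_smul])
  have hmaps : ∀ z : N₀, u z ∈ M₀ := fun z => by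
    have h1 := Submodule.mem_map_of_mem (f := u.restrictScalars P) z.2
    rw [Submodule.map_span] at h1
    exact Submodule.span_mono Set.subset_union_right h1
  let f : N₀ →ₗ[P] M₀ := ((u.restrictScalars P).comp N₀.subtype).codRestrict M₀ hmaps
  have hp : r.comap (algebraMap A P) = maximalIdeal A := by
    ext a
    show φ (algebraMap A P a) ∈ maximalIdeal B ↔ _
    rw [AlgHom.commutes, mem_maximalIdeal, mem_maximalIdeal, mem_nonunits_iff, mem_nonunits_iff, isUnit_map_iff]
  obtain ⟨-, hflat⟩ := SchDom.injective_flat_coker_of_fibre r f fun z t ht hz => by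
    rw [hp] at hz ⊢
    have h1 : t • u (z : N) ∈ (maximalIdeal A • ⊤ : Submodule A M) := by
      have := Submodule.mem_map_of_mem (f := M₀.subtype.restrictScalars A) hz
      rw [Submodule.map_smul''] at this
      exact Submodule.smul_mono le_rfl le_top this
    rw [smul_restrict (B := B), Submodule.restrictScalars_mem, ← algebraMap_smul B t,
      Submodule.smul_mem_iff_of_isUnit _ (show IsUnit (algebraMap P B t) from (hr t).1 ht)] at h1
    obtain ⟨d, hd, y, hy⟩ := exists_eq_smul_of_mem (R := A) (hu _ h1)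
    obtain ⟨t', ht', hty⟩ := hscale _ hsN y
    refine ⟨t', ht', ?_⟩
    have : t' • z = d • (⟨t' • y, hty⟩ : N₀) := Subtype.ext (by
      rw [Submodule.coe_smul, Submodule.coe_smul_of_tower, hy, algebraMap_smul, smul_comm])
    rw [this]
    exact Submodule.smul_mem_smul hd trivial
  obtain ⟨t, ht, htm⟩ := hscale _ hspan m
  rw [← Submodule.Quotient.mk_smul, Submodule.Quotient.mk_eq_zero] at hx
  obtain ⟨n, hn⟩ := hx
  obtain ⟨t', ht', htn⟩ := hscale _ hsN n
  let w : M₀ := t' • ⟨t • m, htm⟩
  have hcw : c • (Submodule.Quotient.mk w : M₀ ⧸ LinearMap.range f) = 0 := by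
    rw [← Submodule.Quotient.mk_smul, Submodule.Quotient.mk_eq_zero]
    refine ⟨t • ⟨t' • n, htn⟩, Subtype.ext ?_⟩
    show u (t • t' • n) = c • t' • t • m
    rw [LinearMap.map_smul_of_tower, LinearMap.map_smul_of_tower, hn, smul_comm t t', smul_comm c t' (t • m),
      smul_comm c t m]
  haveI := hflat
  have h0 : LocalizedModule.mkLinearMap r.primeCompl (M₀ ⧸ LinearMap.range f) (Submodule.Quotient.mk w) = 0 :=
    (smul_eq_zero_iff_right hc).1 (by rw [← LinearMap.map_smul_of_tower, hcw, map_zero])
  obtain ⟨⟨t'', ht''⟩, h2⟩ := (IsLocalizedModule.eq_zero_iff r.primeCompl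
    (LocalizedModule.mkLinearMap r.primeCompl (M₀ ⧸ LinearMap.range f))).1 h0
  rw [Submonoid.mk_smul, ← Submodule.Quotient.mk_smul, Submodule.Quotient.mk_eq_zero] at h2
  obtain ⟨z, hz⟩ := h2
  have hz' : u (z : N) = t'' • t' • t • m := congrArg Subtype.val hz
  rw [Submodule.Quotient.mk_eq_zero, ← Submodule.smul_mem_iff_of_isUnit _ (show IsUnit (algebraMap P B t) from (hr t).1 ht),
    ← Submodule.smul_mem_iff_of_isUnit _ (show IsUnit (algebraMap P B t') from (hr t').1 ht'),
    ← Submodule.smul_mem_iff_of_isUnit _ (show IsUnit (algebraMap P B t'') from (hr t'').1 ht''),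
    algebraMap_smul, algebraMap_smul, algebraMap_smul]
  exact ⟨z, hz'⟩

end Groth.Agent.ValPD15
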