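import Groth.Agent.Lib.ValPD15.Injective
import Mathlib.RingTheory.PicardGroup
import Mathlib.RingTheory.Localization.BaseChange
import Mathlib.LinearAlgebra.Matrix.ToLin
import Mathlib.LinearAlgebra.Matrix.NonsingularInverse

/-!
# The Picard group of the generic fibre over a valuation ring
-/

open IsLocalRing TensorProduct

namespace Groth.Agent.ValPD15

universe u

open Groth.Agent.RegLoc Groth.Agent.ValDiv15

attribute [local instance] Ideal.Quotient.field in
/-- An invertible module which is stably free is free. -/
theorem nonempty_linearEquiv_of_stablyFreeFin {L : Type u} [CommRing L] (M : Type u) [AddCommGroup M] [Module L M]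
    [Module.Invertible L M] (h : StablyFreeFin L M) : Nonempty (M ≃ₗ[L] L) := by
  classical
  nontriviality L
  obtain ⟨a, b, ⟨e⟩⟩ := h
  obtain ⟨p₀, hp₀⟩ := Ideal.exists_maximal L
  haveI := hp₀
  let k₀ := L ⧸ p₀
  have hb : b = a + 1 := by
    let e' : ((k₀ ⊗[L] M) × (Fin a → k₀)) ≃ₗ[k₀] (Fin b → k₀) :=
      ((LinearEquiv.prodCongr (LinearEquiv.refl _ _) (TensorProduct.piScalarRight L k₀ k₀ (Fin a)).symm).trans
        (TensorProduct.prodRight L k₀ k₀ M (Fin a → L)).symm).trans
      ((e.baseChange L k₀ _ _).trans (TensorProduct.piScalarRight L k₀ k₀ (Fin b)))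
    have := e'.finrank_eq
    rw [Module.finrank_prod, Module.Invertible.finrank_eq_one k₀ (k₀ ⊗[L] M), Module.finrank_fin_fun,
      Module.finrank_fin_fun] at this
    omega
  subst hb
  let ι : M →ₗ[L] (Fin (a + 1) → L) := e.toLinearMap.comp (LinearMap.inl L M (Fin a → L))
  let w : Fin a → (Fin (a + 1) → L) := fun i => e (0, Pi.single i 1)
  let D := (Matrix.detRowAlternating : (Fin (a + 1) → L) [⋀^Fin (a + 1)]→ₗ[L] L)
  let f : M →ₗ[L] L := (D.toMultilinearMap.toLinearMap (Fin.cons 0 w) 0).comp ι
  have hf : ∀ m, f m = Matrix.det (Matrix.of (Fin.cons (ι m) w)) := fun m => by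
    show D (Function.update (Fin.cons 0 w) 0 (ι m)) = _
    rw [Fin.update_cons_zero]; rfl
  have hsurj : Function.Surjective f := by
    rw [← LinearMap.range_eq_top]
    by_contra hne
    obtain ⟨p, hp, hle⟩ := Ideal.exists_le_maximal (LinearMap.range f) hne
    haveI := hp
    let k := L ⧸ p
    let π := Ideal.Quotient.mk p
    let red : (Fin (a + 1) → L) → (Fin (a + 1) → k) := fun v j => π (v j)
    have hw : LinearIndependent k fun i => red (w i) := by
      rw [Fintype.linearIndependent_iff]
      intro g hg i
      choose c hc using fun i => Ideal.Quotient.mk_surjective (g i)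
      let v : Fin (a + 1) → L := ∑ i, c i • w i
      have hv : ∀ j, v j ∈ p := fun j => by
        rw [← Ideal.Quotient.eq_zero_iff_mem]
        have := congrFun hg j
        simp only [Finset.sum_apply, Pi.smul_apply, smul_eq_mul, v, map_sum, map_mul, red, Pi.zero_apply] at this ⊢
        simpa only [← hc] using this
      let G : (Fin (a + 1) → L) →ₗ[L] L :=
        (LinearMap.proj i).comp ((LinearMap.snd L M (Fin a → L)).comp e.symm.toLinearMap)
      have hGv : G v = c i := by
        simp [G, v, w, Pi.single_apply, Finset.sum_apply]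
      rw [← hc, Ideal.Quotient.eq_zero_iff_mem, ← hGv, pi_eq_sum_univ' v, map_sum]
      exact Ideal.sum_mem _ fun j _ => by rw [map_smul, smul_eq_mul]; exact p.mul_mem_right _ (hv j)
    obtain ⟨m, hm⟩ : ∃ m, red (ι m) ∉ Submodule.span k (Set.range fun i => red (w i)) := by
      by_contra hall
      push Not at hall
      have htop : Submodule.span k (Set.range fun i => red (w i)) = ⊤ := by
        refine top_le_iff.1 fun y _ => ?_
        choose y' hy' using fun j => Ideal.Quotient.mk_surjective (y j)
        obtain ⟨⟨m, x⟩, hmx⟩ := e.surjective y'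
        have : y = red (ι m) + ∑ i, π (x i) • red (w i) := funext fun j => by
          have hx : e (m, x) = ι m + ∑ i, x i • w i := by
            have : (m, x) = LinearMap.inl L M (Fin a → L) m + ∑ i, x i • ((0 : M), Pi.single i (1 : L)) := by
              ext <;> simp [Prod.fst_sum, Prod.snd_sum, Pi.single_apply, Finset.sum_apply]
            rw [this, map_add, map_sum]
            simp only [map_smul, ι, w, LinearMap.comp_apply, LinearEquiv.coe_coe]
          have := congrArg π (congrFun (hmx.symm.trans hx) j)
          rw [hy'] at this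
          rw [this]
          simp [red]
        rw [this]
        exact add_mem (hall m) (Submodule.sum_mem _ fun i _ => Submodule.smul_mem _ _ (Submodule.subset_span ⟨i, rfl⟩))
      have h1 := finrank_range_le_card (R := k) (fun i => red (w i))
      rw [Set.finrank, htop, finrank_top, Module.finrank_fin_fun, Fintype.card_fin] at h1
      omega
    have hli : LinearIndependent k (Fin.cons (red (ι m)) fun i => red (w i) : Fin (a + 1) → _) :=
      linearIndependent_finCons.2 ⟨hw, hm⟩
    have hu := Matrix.linearIndependent_rows_iff_isUnit.1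
      (show LinearIndependent k (Matrix.of (Fin.cons (red (ι m)) fun i => red (w i))).row from hli)
    rw [Matrix.isUnit_iff_isUnit_det] at hu
    refine hu.ne_zero ?_
    have hmat : Matrix.of (Fin.cons (red (ι m)) fun i => red (w i)) =
        π.mapMatrix (Matrix.of (Fin.cons (ι m) w)) := by
      ext i j; refine Fin.cases ?_ (fun i => ?_) i <;> rfl
    rw [hmat, ← RingHom.map_det, Ideal.Quotient.eq_zero_iff_mem, ← hf]
    exact hle ⟨m, rfl⟩
  exact ⟨LinearEquiv.ofBijective f (Module.Invertible.bijective_of_surjective hsurj)⟩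

/-- The Picard group of the generic fibre is trivial. -/
theorem pic_genericFibre (R A : Type u) [CommRing R] [IsDomain R] [ValuationRing R] [CommRing A] [IsLocalRing A]
    [Algebra R A] [IsLocalHom (algebraMap R A)] [Module.Flat R A] [Algebra.EssFiniteType R A]
    [IsRegularRing (ResidueField R ⊗[R] A)] : Subsingleton (CommRing.Pic (FractionRing R ⊗[R] A)) := by
  let S := Algebra.algebraMapSubmonoid A (nonZeroDivisors R)
  let L := Localization S
  suffices h : Subsingleton (CommRing.Pic L) by
    let e : L ≃+* FractionRing R ⊗[R] A := (Localization.tensorRightAlgEquiv (nonZeroDivisors R) A).symm.toRingEquiv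
    refine ⟨fun x y => ?_⟩
    have key : ∀ z, CommRing.Pic.mapRingHom e.toRingHom (CommRing.Pic.mapRingHom e.symm.toRingHom z) = z := fun z => by
      rw [CommRing.Pic.mapRingHom_mapRingHom, RingEquiv.toRingHom_comp_symm_toRingHom,
        CommRing.Pic.mapRingHom_id_apply]
    rw [← key x, ← key y, @Subsingleton.elim _ h (CommRing.Pic.mapRingHom e.symm.toRingHom x)]
  refine CommRing.Pic.subsingleton_iff.2 fun P _ _ _ => Module.Invertible.free_iff_linearEquiv.2 ?_
  classical
  refine nonempty_linearEquiv_of_stablyFreeFin P ?_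
  obtain ⟨s, hs⟩ := Module.Finite.fg_top (R := L) (M := P)
  letI : Module A P := Module.compHom P (algebraMap A L)
  haveI : IsScalarTower A L P := IsScalarTower.of_algebraMap_smul fun _ _ => rfl
  let P₀ : Submodule A P := Submodule.span A (s : Set P)
  haveI : Module.Finite A P₀ := Module.Finite.iff_fg.2 (Submodule.fg_span s.finite_toSet)
  have hu : ∀ t : S, IsUnit (algebraMap A L t) := IsLocalization.map_units L
  haveI hloc : IsLocalizedModule S P₀.subtype := {
    map_units := fun t => by
      rw [Module.End.isUnit_iff]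
      exact ⟨fun x y h => (hu t).smul_left_cancel.1 (by simpa [algebraMap_smul] using h),
        fun x => ⟨((hu t).unit⁻¹ : Lˣ) • x, by
          show (t : A) • (((hu t).unit⁻¹ : Lˣ) • x) = x
          rw [Units.smul_def, ← algebraMap_smul L (t : A), smul_smul, IsUnit.mul_val_inv, one_smul]⟩⟩
    surj := fun y => by
      have hy : y ∈ Submodule.span L (s : Set P) := hs ▸ trivial
      obtain ⟨t, ht⟩ := multiple_mem_span_of_mem_localization_span S L (s : Set P) y hy
      exact ⟨(⟨_, ht⟩, t), rfl⟩
    exists_of_eq := fun {x₁ x₂} h => ⟨1, by rw [Subtype.ext h]⟩ }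
  let e : LocalizedModule S P₀ ≃ₗ[L] P :=
    LinearEquiv.extendScalarsOfIsLocalization S L (IsLocalizedModule.iso S P₀.subtype)
  have htf : ∀ (c : R) (x : P₀), c ≠ 0 → algebraMap R A c • x = 0 → x = 0 := fun c x hc hx => by
    refine Subtype.ext ((hu ⟨_, Algebra.mem_algebraMapSubmonoid_of_mem
      (⟨c, mem_nonZeroDivisors_of_ne_zero hc⟩ : nonZeroDivisors R)⟩).smul_left_cancel.1 ?_)
    rw [ZeroMemClass.coe_zero, smul_zero, algebraMap_smul, ← Submodule.coe_smul]
    exact congrArg Subtype.val hx
  let eq : (A ⧸ fib R A) ≃+* ResidueField R ⊗[R] A :=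
    (Algebra.TensorProduct.quotIdealMapEquivTensorQuot A (maximalIdeal R)).toRingEquiv.trans
      (Algebra.TensorProduct.comm R A (R ⧸ maximalIdeal R)).toRingEquiv
  haveI : IsRegularRing (A ⧸ fib R A) := IsRegularRing.of_ringEquiv eq.symm
  haveI : Nontrivial (A ⧸ fib R A) := Ideal.Quotient.nontrivial_iff.2
    (ne_top_of_le_ne_top (maximalIdeal.isMaximal A).ne_top fib_le)
  haveI : IsLocalRing (A ⧸ fib R A) := .of_surjective' _ Ideal.Quotient.mk_surjective
  haveI : IsRegularLocalRing (A ⧸ fib R A) := IsRegularLocalRing.of_isRegularRing_of_isLocalRing _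
  haveI : Module.Finite (A ⧸ fib R A) (P₀ ⧸ fib R A • (⊤ : Submodule A P₀)) :=
    Module.Finite.of_restrictScalars_finite A _ _
  haveI : Module.Projective L (LocalizedModule S P₀) := Module.Projective.of_equiv e.symm
  obtain ⟨a, b, ⟨g⟩⟩ := stablyFreeFin_of_pd_red (R := R) fib_le
    (fun c x hc hx => torsionFree_of_flat (R := R) (A := A) c x hc hx) (hcoh_essFiniteType R A) S _ P₀ htf
    (pd_le_spanFinrank _ _ rfl _) inferInstance
  exact ⟨a, b, ⟨(LinearEquiv.prodCongr e.symm (LinearEquiv.refl _ _)).trans g⟩⟩

end Groth.Agent.ValPD15
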